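import Groth.Agent.LineGrp.Points
import Mathlib.Algebra.Polynomial.Degree.Lemmas
import Mathlib.Algebra.Polynomial.Degree.Units
import Mathlib.Algebra.Polynomial.Degree.SmallDegree
import Mathlib.Algebra.Polynomial.AlgebraMap

/-!
# Group laws on the affine line
-/

universe u

open CategoryTheory MonoidalCategory CartesianMonoidalCategory AlgebraicGeometry Polynomial

noncomputable section



namespace Groth.Agent.LineGrp

abbrev Z : Type u := ULift.{u} ℤ
abbrev Sym : Type u := SymmetricAlgebra Z.{u} Z.{u}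

theorem ringHom_ulift_ext {A : Type u} [CommRing A] (f g : Z.{u} →+* A) : f = g := by
  ext ⟨n⟩
  exact RingHom.congr_fun (RingHom.ext_int (f.comp ULift.ringEquiv.symm.toRingHom)
    (g.comp ULift.ringEquiv.symm.toRingHom)) n

/-- The coordinate. -/
def gen : Sym.{u} := SymmetricAlgebra.ι Z Z (ULift.up 1)

theorem sym_ext {A : Type u} [CommRing A] {f g : Sym.{u} →+* A} (h : f gen = g gen) : f = g := by
  have hb : ∀ r : Z.{u}, f (algebraMap _ _ r) = g (algebraMap _ _ r) := fun r =>
    RingHom.congr_fun (ringHom_ulift_ext (f.comp (algebraMap Z _)) (g.comp (algebraMap Z _))) r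
  refine RingHom.ext fun x => ?_
  induction x using SymmetricAlgebra.induction with
  | algebraMap r => exact hb r
  | ι x =>
    have hx : SymmetricAlgebra.ι Z Z x = algebraMap Z Sym x * gen := by
      rw [← Algebra.smul_def, gen, ← map_smul]
      congr 1
      ext
      simp
    rw [hx, map_mul, map_mul, hb, h]
  | mul a b ha hb => rw [map_mul, map_mul, ha, hb]
  | add a b ha hb => rw [map_add, map_add, ha, hb]

section
attribute [local instance 2000] Algebra.toModule

/-- The map with given value of the coordinate. -/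
def mk {A : Type u} [CommRing A] (a : A) : Sym.{u} →+* A :=
  letI : Algebra Z.{u} A := ((Int.castRingHom A).comp ULift.ringEquiv.toRingHom).toAlgebra
  (SymmetricAlgebra.lift (A := A)
    { toFun := fun r => algebraMap Z A r * a
      map_add' := fun r s => by rw [map_add, add_mul]
      map_smul' := fun c r => by
        rw [smul_eq_mul, map_mul, mul_assoc, RingHom.id_apply, Algebra.smul_def] }).toRingHom

theorem mk_gen {A : Type u} [CommRing A] (a : A) : mk a gen = a := by
  letI : Algebra Z.{u} A := ((Int.castRingHom A).comp ULift.ringEquiv.toRingHom).toAlgebra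
  show SymmetricAlgebra.lift _ (SymmetricAlgebra.ι Z Z _) = a
  rw [SymmetricAlgebra.lift_ι_apply]
  show algebraMap Z A (1 : Z) * a = a
  rw [map_one, one_mul]

end

theorem mk_eta {A : Type u} [CommRing A] (f : Sym.{u} →+* A) : mk (f gen) = f := sym_ext (mk_gen _)

/-- A polynomial law with unit `e`, associative, with inverse, is `x + y - e`. -/
theorem law_eq {k : Type u} [CommRing k] [IsDomain k] (e : k) (f : k[X][X]) (g : k[X])
    (h₁ : f.map (evalRingHom e) = X) (h₂ : f.eval (C e) = X)
    (h₃ : (f.map (aeval g : k[X] →ₐ[k] k[X]).toRingHom).comp f = X) :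
    f = X + C (X - C e) := by
  have hd : f.natDegree = 1 := by
    have := congrArg natDegree h₃
    rw [natDegree_comp, natDegree_X] at this
    exact (mul_eq_one.mp this).2
  have hf := eq_X_add_C_of_natDegree_le_one hd.le
  have hu : IsUnit (f.coeff 1) := by
    have := congrArg (fun p => p.coeff 1) h₃
    rw [hf] at this
    simp at this
    exact IsUnit.of_mul_eq_one _ ((mul_comm _ _).trans this)
  obtain ⟨r, -, hr⟩ := isUnit_iff.mp hu
  have h1 := congrArg (fun p => p.coeff 1) h₁
  simp only [coeff_map, ← hr, coe_evalRingHom, eval_C, coeff_X_one] at h1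
  subst h1
  rw [hf] at h₂ ⊢
  rw [← hr] at h₂ ⊢
  simp only [map_one, one_mul, eval_add, eval_X, eval_C] at h₂ ⊢
  rw [← eq_sub_of_add_eq' h₂]

section

variable {k : Type u} [Field k]

theorem unit_gen [GrpObj (rep k Sym)] (A : Type u) [CommRing A] [Algebra k A] :
    unit k Sym A gen = algebraMap k A (unit k Sym k gen) :=
  (RingHom.congr_fun (map_unit (Algebra.ofId k A)) gen).symm

variable [GrpObj (rep k Sym)] {A B : Type u} [CommRing A] [Algebra k A] [CommRing B] [Algebra k B]

/-- The law on coordinates. -/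
def opE (a b : A) : A := op (k := k) (R := Sym.{u}) (MonObj.mul (X := rep k Sym)) (mk a) (mk b) gen

theorem map_mk (F : A →ₐ[k] B) (x : A) : F.toRingHom.comp (mk x) = mk (F x) := by
  apply sym_ext
  rw [RingHom.comp_apply, mk_gen, mk_gen]
  rfl

theorem opE_map (F : A →ₐ[k] B) (a b : A) : opE (k := k) (F a) (F b) = F (opE (k := k) a b) := by
  rw [opE, ← map_mk, ← map_mk, op_map]
  rfl

theorem mk_opE (a b : A) :
    mk (opE (k := k) a b) = op (k := k) (R := Sym.{u}) (MonObj.mul (X := rep k Sym)) (mk a) (mk b) :=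
  mk_eta _

theorem opE_assoc (a b c : A) :
    opE (k := k) (opE (k := k) a b) c = opE (k := k) a (opE (k := k) b c) := by
  show op _ (mk (opE a b)) _ gen = op _ _ (mk (opE b c)) gen
  rw [mk_opE, mk_opE, op_assoc]

variable (k) in
/-- The coordinate of the origin. -/
def orig : k := unit k Sym.{u} k gen

theorem mk_orig : mk (algebraMap k A (orig k)) = unit k Sym.{u} A := by
  apply sym_ext
  rw [mk_gen, unit_gen]
  rfl

theorem opE_orig (a : A) : opE (k := k) a (algebraMap k A (orig k)) = a := by
  rw [opE, mk_orig, op_unit, mk_gen]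

theorem orig_opE (a : A) : opE (k := k) (algebraMap k A (orig k)) a = a := by
  rw [opE, mk_orig, unit_op, mk_gen]

theorem exists_opE_inv (a : A) : ∃ b, opE (k := k) a b = algebraMap k A (orig k) := by
  obtain ⟨ψ, hψ⟩ := exists_op_inv (k := k) (R := Sym.{u}) (mk a)
  exact ⟨ψ gen, by rw [opE, mk_eta, hψ, unit_gen]; rfl⟩

variable (k) in
/-- The polynomial law. -/
def lawP : k[X][X] := opE (k := k) (A := k[X][X]) X (C X)

theorem opE_eq_aeval (a b : A) : opE (k := k) a b = aevalTower (aeval b) a (lawP k) := by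
  have := opE_map (k := k) (aevalTower (aeval b) a : k[X][X] →ₐ[k] A) X (C X)
  rwa [aevalTower_X, aevalTower_C, aeval_X] at this

theorem opE_formula (a b : A) : opE (k := k) a b = a + b - algebraMap k A (orig k) := by
  obtain ⟨g, hg⟩ := exists_opE_inv (k := k) (A := k[X]) X
  have hinv : opE (k := k) (A := k[X][X]) (C X) (C g) = C (C (orig k)) := by
    have h := congrArg (IsScalarTower.toAlgHom k k[X] k[X][X]) hg
    rw [← opE_map] at h
    simpa [algebraMap_eq] using h
  have h₃ : ((lawP k).map (aeval g : k[X] →ₐ[k] k[X]).toRingHom).comp (lawP k) = X := by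
    have h : opE (k := k) (lawP k) (C g) = X := by
      rw [lawP, opE_assoc, hinv]
      exact opE_orig X
    rw [opE_eq_aeval] at h
    refine Eq.trans ?_ h
    rw [comp, eval₂_map]
    have : (aeval (C g) : k[X] →ₐ[k] k[X][X]).toRingHom =
        C.comp (aeval g : k[X] →ₐ[k] k[X]).toRingHom := by
      refine Polynomial.ringHom_ext (fun r => ?_) ?_ <;> simp
    show _ = eval₂ (aeval (C g) : k[X] →ₐ[k] k[X][X]).toRingHom (lawP k) (lawP k)
    rw [this]
  have h₁ : (lawP k).map (evalRingHom (orig k)) = X := by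
    have h : opE (k := k) (A := k[X]) X (C (orig k)) = X := opE_orig X
    rw [opE_eq_aeval] at h
    refine Eq.trans ?_ h
    rw [← eval₂_C_X (p := (lawP k).map _), eval₂_map]
    have : (aeval (C (orig k)) : k[X] →ₐ[k] k[X]).toRingHom = C.comp (evalRingHom (orig k)) := by
      refine Polynomial.ringHom_ext (fun r => ?_) ?_ <;> simp
    show _ = eval₂ (aeval (C (orig k)) : k[X] →ₐ[k] k[X]).toRingHom X (lawP k)
    rw [this]
  have h₂ : (lawP k).eval (C (orig k)) = X := by
    have h : opE (k := k) (A := k[X]) (C (orig k)) X = X := orig_opE X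
    rw [opE_eq_aeval, aeval_X_left] at h
    exact h
  rw [opE_eq_aeval, law_eq (orig k) (lawP k) g h₁ h₂ h₃]
  simp only [map_add, map_sub, aevalTower_X, aevalTower_C, aeval_X, aeval_C]
  ring

theorem op_mul_eq (φ ψ : Sym.{u} →+* A) :
    op (k := k) (R := Sym.{u}) (MonObj.mul (X := rep k Sym)) φ ψ =
      mk (φ gen + ψ gen - unit k Sym.{u} A gen) := by
  apply sym_ext
  conv_lhs => rw [← mk_eta φ, ← mk_eta ψ]
  rw [mk_gen, unit_gen]
  exact opE_formula (φ gen) (ψ gen)

end

/-- Two group laws on the affine line with the same unit have the same multiplication. -/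
theorem mul_eq {k : Type u} [Field k] (h₁ h₂ : GrpObj (rep k Sym.{u})) (e : h₁.one = h₂.one) :
    h₁.mul = h₂.mul := by
  refine hom_ext fun A _ _ φ ψ => ?_
  have e' : @unit k _ Sym.{u} _ _ A _ _ h₁ = @unit k _ Sym.{u} _ _ A _ _ h₂ := by
    rw [@unit_eq k _ Sym.{u} _ _ A _ _ h₁, @unit_eq k _ Sym.{u} _ _ A _ _ h₂, e]
  rw [@op_mul_eq k _ h₁ A _ _ φ ψ, @op_mul_eq k _ h₂ A _ _ φ ψ, e']

end Groth.Agent.LineGrp
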