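import Groth.Agent.LineGrp.Ga
import Mathlib.Algebra.Polynomial.Laurent
import Mathlib.RingTheory.Polynomial.Content

/-!
# Group laws on the punctured line
-/

universe u

open CategoryTheory MonoidalCategory CartesianMonoidalCategory AlgebraicGeometry

noncomputable section



namespace Groth.Agent.LineGrp

open LaurentPolynomial

/-- The units of Laurent polynomials over a domain are the monomials with unit coefficient. -/
theorem exists_eq_C_mul_T {R : Type u} [CommRing R] [IsDomain R] {u : R[T;T⁻¹]} (hu : IsUnit u) :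
    ∃ (c : R) (n : ℤ), IsUnit c ∧ u = C c * T n := by
  obtain ⟨v, hv⟩ := isUnit_iff_exists_inv.mp hu
  obtain ⟨a, p, hp⟩ := exists_T_pow u
  obtain ⟨b, q, hq⟩ := exists_T_pow v
  have hpq : p * q = Polynomial.X ^ (a + b) := by
    apply Polynomial.toLaurent_injective
    rw [map_mul, hp, hq, Polynomial.toLaurent_X_pow, Nat.cast_add, T_add]
    linear_combination (T (a : ℤ) * T (b : ℤ)) * hv
  obtain ⟨i, -, hi⟩ := (dvd_prime_pow Polynomial.prime_X _).mp (Dvd.intro q hpq)
  obtain ⟨w, hw⟩ := hi.symm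
  obtain ⟨r, hr, hrw⟩ := Polynomial.isUnit_iff.mp w.isUnit
  refine ⟨r, (i : ℤ) - a, hr, ?_⟩
  calc u = (u * T (a : ℤ)) * T (-(a : ℤ)) := by rw [mul_assoc, ← T_add, add_neg_cancel, T_zero, mul_one]
    _ = (C r * T (i : ℤ)) * T (-(a : ℤ)) := by
      rw [← hp, ← hw, ← hrw, mul_comm (Polynomial.X ^ i), map_mul, Polynomial.toLaurent_C,
        Polynomial.toLaurent_X_pow]
    _ = C r * T ((i : ℤ) - a) := by rw [mul_assoc, ← T_add, sub_eq_add_neg]

theorem C_mul_T_inj {R : Type u} [CommRing R] [Nontrivial R] {c : R} {n : ℤ}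
    (h : C c * T n = (T 1 : R[T;T⁻¹])) : c = 1 ∧ n = 1 := by
  have hn : n = 1 := by
    by_contra hne
    have := congrArg (fun p : R[T;T⁻¹] => p.coeff 1) h
    simp [← single_eq_C_mul_T, Finsupp.single_apply, hne] at this
  subst hn
  have := congrArg (fun p : R[T;T⁻¹] => p.coeff 1) h
  simp [← single_eq_C_mul_T] at this
  exact ⟨this, rfl⟩

abbrev Lau : Type u := MonoidAlgebra Z.{u} (Multiplicative ℤ)

/-- The coordinate of the punctured line. -/
def genU : Lau.{u}ˣ :=
  ((toUnits (G := Multiplicative ℤ)) (Multiplicative.ofAdd (1 : ℤ))).map (MonoidAlgebra.of Z.{u} (Multiplicative ℤ))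

/-- The map with given value of the coordinate. -/
def mkU {A : Type u} [CommRing A] (a : Aˣ) : Lau.{u} →+* A :=
  MonoidAlgebra.liftNCRingHom ((Int.castRingHom A).comp ULift.ringEquiv.toRingHom)
    ((Units.coeHom A).comp (zpowersHom Aˣ a)) fun _ _ => Commute.all _ _

theorem lau_ext {A : Type u} [CommRing A] {f g : Lau.{u} →+* A}
    (h : Units.map f.toMonoidHom genU = Units.map g.toMonoidHom genU) : f = g := by
  refine MonoidAlgebra.ringHom_ext (fun r => ?_) (fun n => ?_)
  · exact RingHom.congr_fun (ringHom_ulift_ext (f.comp MonoidAlgebra.singleOneRingHom)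
      (g.comp MonoidAlgebra.singleOneRingHom)) r
  · have hn : ∀ F : Lau.{u} →+* A, F (MonoidAlgebra.single n 1) =
        ((Units.map F.toMonoidHom genU ^ Multiplicative.toAdd n : Aˣ) : A) := by
      intro F
      let α : Multiplicative ℤ →* Aˣ :=
        (F.toMonoidHom.comp (MonoidAlgebra.of Z.{u} _)).toHomUnits
      have h0 : α (Multiplicative.ofAdd 1) = Units.map F.toMonoidHom genU := Units.ext rfl
      have h1 : Multiplicative.ofAdd (1 : ℤ) ^ Multiplicative.toAdd n = n := by
        apply Multiplicative.toAdd.injective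
        simp
      rw [← h0, ← map_zpow, h1]
      rfl
    rw [hn f, hn g, h]

theorem mkU_genU {A : Type u} [CommRing A] (a : Aˣ) :
    Units.map (mkU a).toMonoidHom genU = a := by
  ext
  show mkU a (MonoidAlgebra.single (Multiplicative.ofAdd 1) 1) = _
  rw [mkU]
  simp [MonoidAlgebra.liftNCRingHom]

variable {k : Type u} [Field k] [GrpObj (rep k Lau.{u})]
variable {A B : Type u} [CommRing A] [Algebra k A] [CommRing B] [Algebra k B]

/-- The law on coordinates. -/
def opU (a b : Aˣ) : Aˣ :=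
  Units.map (op (k := k) (R := Lau.{u}) (MonObj.mul (X := rep k Lau)) (mkU a) (mkU b)).toMonoidHom genU

theorem opU_map (F : A →ₐ[k] B) (a b : Aˣ) :
    opU (k := k) (Units.map F.toMonoidHom a) (Units.map F.toMonoidHom b) =
      Units.map F.toMonoidHom (opU (k := k) a b) := by
  have h : ∀ x : Aˣ, F.toRingHom.comp (mkU x) = mkU (Units.map F.toMonoidHom x) := fun x => by
    apply lau_ext
    rw [mkU_genU]
    conv_rhs => rw [← mkU_genU x]
    rfl
  rw [opU, ← h, ← h, op_map]
  rfl

variable (k) in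
/-- The coordinate of the origin. -/
def origU : kˣ := Units.map (unit k Lau.{u} k).toMonoidHom genU

theorem mkU_origU : mkU (Units.map (algebraMap k A).toMonoidHom (origU k)) = unit k Lau.{u} A := by
  apply lau_ext
  rw [mkU_genU, ← map_unit (Algebra.ofId k A)]
  rfl

theorem opU_origU (a : Aˣ) :
    opU (k := k) a (Units.map (algebraMap k A).toMonoidHom (origU k)) = a := by
  rw [opU, mkU_origU, op_unit, mkU_genU]

theorem origU_opU (a : Aˣ) :
    opU (k := k) (Units.map (algebraMap k A).toMonoidHom (origU k)) a = a := by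
  rw [opU, mkU_origU, unit_op, mkU_genU]

/-- The monomial unit. -/
def Tu {R : Type u} [CommRing R] : (R[T;T⁻¹])ˣ := (isUnit_T 1).unit

theorem Tu_zpow {R : Type u} [CommRing R] (n : ℤ) : ((Tu ^ n : (R[T;T⁻¹])ˣ) : R[T;T⁻¹]) = T n := by
  induction n using Int.induction_on with
  | zero => simp
  | succ i ih => rw [zpow_add_one, Units.val_mul, ih, T_add]; rfl
  | pred i ih =>
    rw [zpow_sub_one, Units.val_mul, ih, sub_eq_add_neg, T_add]
    congr 1
    refine Units.inv_eq_of_mul_eq_one_right (?_ : T 1 * T (-1) = 1)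
    rw [← T_add, add_neg_cancel, T_zero]

/-- Evaluation of two-variable Laurent polynomials. -/
def eval2U (a b : Aˣ) : k[T;T⁻¹][T;T⁻¹] →ₐ[k] A where
  __ := eval₂ (eval₂ (algebraMap k A) b) a
  commutes' r := by
    show eval₂ _ a (algebraMap k _ r) = _
    rw [LaurentPolynomial.algebraMap_apply, eval₂_C, LaurentPolynomial.algebraMap_apply, eval₂_C,
      Algebra.algebraMap_self, RingHom.id_apply]

theorem opU_formula (a b : Aˣ) :
    opU (k := k) a b = a * b * (Units.map (algebraMap k A).toMonoidHom (origU k))⁻¹ := by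
  let P := k[T;T⁻¹][T;T⁻¹]
  let Y : Pˣ := Units.map (C : k[T;T⁻¹] →+* P).toMonoidHom Tu
  let f : Pˣ := opU (k := k) Tu Y
  obtain ⟨c, m, hc, hf⟩ := exists_eq_C_mul_T f.isUnit
  obtain ⟨r, n, hr, rfl⟩ := exists_eq_C_mul_T hc
  have key : ∀ {D : Type u} [CommRing D] [Algebra k D] (x y : Dˣ),
      (opU (k := k) x y : D) = algebraMap k D r * (y ^ n : Dˣ) * (x ^ m : Dˣ) := by
    intro D _ _ x y
    have hX : Units.map (eval2U (k := k) x y).toMonoidHom Tu = x := by
      ext
      show eval₂ _ x (T 1) = _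
      rw [eval₂_T, zpow_one]
    have hY : Units.map (eval2U (k := k) x y).toMonoidHom Y = y := by
      ext
      show eval₂ _ x (C (T 1)) = _
      rw [eval₂_C, eval₂_T, zpow_one]
    have hm := opU_map (k := k) (eval2U (k := k) x y) Tu Y
    rw [hX, hY] at hm
    rw [hm]
    show eval₂ _ x (f : P) = _
    rw [hf, eval₂_C_mul_T, eval₂_C_mul_T]
  let e := origU k
  have h1 : (r * ((e ^ n : kˣ) : k)) = 1 ∧ m = 1 := by
    refine C_mul_T_inj ?_
    have h := key (D := k[T;T⁻¹]) Tu (Units.map (algebraMap k k[T;T⁻¹]).toMonoidHom e)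
    rw [opU_origU] at h
    rw [← map_zpow, Tu_zpow, LaurentPolynomial.algebraMap_apply, Algebra.algebraMap_self,
      RingHom.id_apply] at h
    rw [map_mul]
    refine Eq.trans ?_ h.symm
    congr 2
  obtain ⟨hr1, rfl⟩ := h1
  have h2 : r * ((e ^ (1 : ℤ) : kˣ) : k) = 1 ∧ n = 1 := by
    refine C_mul_T_inj ?_
    have h := key (D := k[T;T⁻¹]) (Units.map (algebraMap k k[T;T⁻¹]).toMonoidHom e) Tu
    rw [origU_opU] at h
    rw [Tu_zpow, LaurentPolynomial.algebraMap_apply, Algebra.algebraMap_self, RingHom.id_apply,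
      zpow_one] at h
    rw [zpow_one, map_mul]
    refine Eq.trans ?_ h.symm
    rw [mul_right_comm]
    rfl
  obtain ⟨hr2, rfl⟩ := h2
  ext
  rw [key a b, zpow_one, zpow_one, Units.val_mul, Units.val_mul]
  rw [zpow_one] at hr2
  have : r = ((e⁻¹ : kˣ) : k) := by
    rw [← mul_one ((e⁻¹ : kˣ) : k), ← hr2, mul_comm r, Units.inv_mul_cancel_left]
  rw [this, ← map_inv]
  show algebraMap k A _ * _ * _ = _ * _ * algebraMap k A _
  ring

omit [GrpObj (rep k Lau.{u})] in
/-- Two group laws on the punctured line with the same unit have the same multiplication. -/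
theorem mulU_eq (h₁ h₂ : GrpObj (rep k Lau.{u})) (e : h₁.one = h₂.one) :
    h₁.mul = h₂.mul := by
  refine hom_ext fun D _ _ φ ψ => ?_
  apply lau_ext
  have hφ : ∀ χ : Lau.{u} →+* D, mkU (Units.map χ.toMonoidHom genU) = χ :=
    fun χ => lau_ext (mkU_genU _)
  rw [← hφ φ, ← hφ ψ]
  have e' : @origU k _ h₁ = @origU k _ h₂ := by
    rw [origU, origU, @unit_eq k _ Lau.{u} _ _ k _ _ h₁, @unit_eq k _ Lau.{u} _ _ k _ _ h₂, e]
  have := @opU_formula k _ h₁ D _ _ (Units.map φ.toMonoidHom genU) (Units.map ψ.toMonoidHom genU)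
  rw [e', ← @opU_formula k _ h₂ D _ _ (Units.map φ.toMonoidHom genU) (Units.map ψ.toMonoidHom genU)] at this
  exact this

end Groth.Agent.LineGrp
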