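import Groth.Prelude.Def_Red2
import Mathlib.Algebra.Category.Ring.Instances

/-!
# Points of `bc _ (Spec R₀)` in affine `k`-schemes
-/

universe u

open CategoryTheory CategoryTheory.Limits MonoidalCategory CartesianMonoidalCategory AlgebraicGeometry
open scoped MonObj GrpObj

noncomputable section

namespace Groth.Agent.LineGrp

variable (k : Type u) [CommRing k] (R : Type u) [CommRing R] [Algebra (ULift.{u} ℤ) R]

/-- `Spec A` over `Spec k`. -/
abbrev specA (A : Type u) [CommRing A] [Algebra k A] : Over (Spec (CommRingCat.of k)) :=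
  Over.mk (Spec.map (CommRingCat.ofHom (algebraMap k A)))

/-- The base change of `Spec R` to `Spec k`. -/
abbrev rep : Over (Spec (CommRingCat.of k)) :=
  Red.bc (IsTerminal.from specULiftZIsTerminal _)
    ((Spec (CommRingCat.of R)).asOver (Spec (CommRingCat.of (ULift.{u} ℤ))))

variable {k R}
variable {A B : Type u} [CommRing A] [Algebra k A] [CommRing B] [Algebra k B]

/-- The point attached to a ring map. -/
def pt (φ : R →+* A) : specA k A ⟶ rep k R :=
  Over.homMk (pullback.lift (Spec.map (CommRingCat.ofHom φ)) (Spec.map (CommRingCat.ofHom (algebraMap k A)))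
    (specULiftZIsTerminal.hom_ext _ _)) (pullback.lift_snd _ _ _)

/-- The ring map of a point. -/
def co (x : specA k A ⟶ rep k R) : R →+* A :=
  (Spec.preimage (x.left ≫ pullback.fst _ _ : Spec (CommRingCat.of A) ⟶ Spec (CommRingCat.of R))).hom

theorem co_pt (φ : R →+* A) : co (pt (k := k) φ) = φ := by
  unfold co pt
  refine (congrArg (fun q => (Spec.preimage q).hom) (?_ : _ = Spec.map (CommRingCat.ofHom φ))).trans ?_
  · exact pullback.lift_fst _ _ _
  · rw [Spec.preimage_map]; rfl

theorem ext_co {x y : specA k A ⟶ rep k R} (h : co x = co y) : x = y := by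
  ext : 1
  apply pullback.hom_ext
  · have h' := congrArg Spec.map (CommRingCat.hom_ext h :
      Spec.preimage (x.left ≫ pullback.fst _ _ : Spec (CommRingCat.of A) ⟶ Spec (CommRingCat.of R)) =
        Spec.preimage (y.left ≫ pullback.fst _ _ : Spec (CommRingCat.of A) ⟶ Spec (CommRingCat.of R)))
    simp only [Spec.map_preimage] at h'
    exact h'
  · exact (Over.w x).trans (Over.w y).symm

theorem pt_co (x : specA k A ⟶ rep k R) : pt (co x) = x := ext_co (co_pt _)

/-- Change of test algebra. -/
def mapA (f : A →ₐ[k] B) : specA k B ⟶ specA k A :=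
  Over.homMk (Spec.map (CommRingCat.ofHom f.toRingHom)) (by
    show Spec.map _ ≫ Spec.map _ = Spec.map _
    rw [← Spec.map_comp]
    congr 1
    ext : 1
    exact f.comp_algebraMap)

theorem co_comp (f : A →ₐ[k] B) (x : specA k A ⟶ rep k R) :
    co (mapA f ≫ x) = f.toRingHom.comp (co x) := by
  have h : Spec.map (CommRingCat.ofHom (co x) ≫ CommRingCat.ofHom f.toRingHom) =
      (mapA f ≫ x).left ≫ pullback.fst _ _ := by
    rw [Spec.map_comp, Over.comp_left, Category.assoc]
    congr 1
    exact Spec.map_preimage (R := CommRingCat.of R) (S := CommRingCat.of A) _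
  refine (congrArg (fun q => (Spec.preimage q).hom) h.symm).trans ?_
  exact congrArg CommRingCat.Hom.hom (Spec.preimage_map _)

theorem mapA_pt (f : A →ₐ[k] B) (φ : R →+* A) : mapA f ≫ pt φ = pt (f.toRingHom.comp φ) :=
  ext_co (by rw [co_comp, co_pt, co_pt])

section Law

variable (m : rep k R ⊗ rep k R ⟶ rep k R)

/-- The operation on points. -/
def op (φ ψ : R →+* A) : R →+* A := co (lift (pt (k := k) φ) (pt ψ) ≫ m)

theorem op_map (f : A →ₐ[k] B) (φ ψ : R →+* A) :
    op m (f.toRingHom.comp φ) (f.toRingHom.comp ψ) = f.toRingHom.comp (op m φ ψ) := by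
  rw [op, op, ← mapA_pt, ← mapA_pt, ← comp_lift, Category.assoc, co_comp]

theorem pt_op (φ ψ : R →+* A) : pt (op m φ ψ) = lift (pt (k := k) φ) (pt ψ) ≫ m := pt_co _

variable {m} in
/-- Operations agreeing on all affine points are equal. -/
theorem hom_ext {m' : rep k R ⊗ rep k R ⟶ rep k R}
    (h : ∀ (A : Type u) [CommRing A] [Algebra k A] (φ ψ : R →+* A), op m φ ψ = op m' φ ψ) :
    m = m' := by
  have : IsAffine (rep k R).left := by
    show IsAffine (pullback (X := Spec (CommRingCat.of R)) (Y := Spec (CommRingCat.of k))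
      (Z := Spec (CommRingCat.of (ULift.{u} ℤ)))
      ((Spec (CommRingCat.of R)).asOver (Spec (CommRingCat.of (ULift.{u} ℤ)))).hom _)
    infer_instance
  have : IsAffine (rep k R ⊗ rep k R).left := by
    show IsAffine (pullback _ _)
    infer_instance
  let e := (rep k R ⊗ rep k R).left.isoSpec
  let A := Γ((rep k R ⊗ rep k R).left, ⊤)
  obtain ⟨s, hs⟩ := Spec.map_surjective (e.inv ≫ (rep k R ⊗ rep k R).hom)
  algebraize [s.hom]
  let q : specA k A ≅ rep k R ⊗ rep k R := Over.isoMk e.symm (by
    show e.inv ≫ _ = Spec.map (CommRingCat.ofHom s.hom)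
    rw [CommRingCat.ofHom_hom, hs])
  rw [← cancel_epi q.hom]
  have := congrArg (pt (k := k)) (h A (co (q.hom ≫ fst _ _)) (co (q.hom ≫ snd _ _)))
  rwa [pt_op, pt_op, pt_co, pt_co, ← comp_lift, lift_fst_snd, Category.comp_id] at this

end Law

section Group

variable [GrpObj (rep k R)]

theorem op_eq (φ ψ : R →+* A) :
    op (k := k) (R := R) (MonObj.mul (X := rep k R)) φ ψ = co (pt (k := k) φ * pt ψ) := by
  rw [op]
  rfl

theorem op_assoc (φ ψ χ : R →+* A) :
    op (k := k) (R := R) (MonObj.mul (X := rep k R)) (op (k := k) (R := R) (MonObj.mul (X := rep k R)) φ ψ) χ =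
      op (k := k) (R := R) (MonObj.mul (X := rep k R)) φ (op (k := k) (R := R) (MonObj.mul (X := rep k R)) ψ χ) := by
  simp only [op_eq, pt_co, mul_assoc]

variable (k R A) in
/-- The neutral point. -/
def unit : R →+* A := co (1 : specA k A ⟶ rep k R)

theorem unit_eq : unit k R A = co (toUnit (specA k A) ≫ MonObj.one (X := rep k R)) := rfl

theorem op_unit (φ : R →+* A) : op (k := k) (R := R) (MonObj.mul (X := rep k R)) φ (unit k R A) = φ := by
  rw [op_eq, unit, pt_co, _root_.mul_one, co_pt]

theorem unit_op (φ : R →+* A) : op (k := k) (R := R) (MonObj.mul (X := rep k R)) (unit k R A) φ = φ := by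
  rw [op_eq, unit, pt_co, _root_.one_mul, co_pt]

theorem exists_op_inv (φ : R →+* A) :
    ∃ ψ, op (k := k) (R := R) (MonObj.mul (X := rep k R)) φ ψ = unit k R A :=
  ⟨co (pt (k := k) φ)⁻¹, by rw [op_eq, pt_co, mul_inv_cancel]; rfl⟩

theorem map_unit (f : A →ₐ[k] B) : f.toRingHom.comp (unit k R A) = unit k R B := by
  rw [unit, unit, ← co_comp, MonObj.comp_one]

end Group

end Groth.Agent.LineGrp
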